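import Groth.Agent.HopfGalois.Main
import Mathlib

/-! The quotient of a finite Hopf algebra by a Hopf ideal, as a Galois extension. -/

set_option autoImplicit false
universe u v

open TensorProduct

noncomputable section

namespace Groth.Agent.HopfGalois

variable {R : Type u} [CommRing R] {A : Type v} [CommRing A] [HopfAlgebra R A] (I : Ideal A) [I.IsHopfIdeal R]

/-- The coaction of the subgroup by translations. -/
@[reducible] def quotComod : HopfRep.Comod R (A ⧸ I) A :=
  GLin.comodAlong (Bialgebra.Quotient.mkBialgHom (R := R) I) (HopfRep.Comod.regular R A)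

theorem quotComod_apply (a : A) :
    letI := quotComod (R := R) I
    HopfRep.Comod.coact (k := R) (A := A ⧸ I) a =
      Algebra.TensorProduct.map (AlgHom.id R A) (Ideal.Quotient.mkₐ R I) (Coalgebra.comul (R := R) a) := by
  show TensorProduct.map LinearMap.id _ (Coalgebra.comul (R := R) a) = _
  induction Coalgebra.comul (R := R) a with
  | zero => simp
  | add p q hp hq => simp only [map_add, hp, hq]
  | tmul p q => rfl

theorem quot_isCoactAlg : letI := quotComod (R := R) I; GLin.IsCoactAlg R (A ⧸ I) A := by
  letI := quotComod (R := R) I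
  exact ⟨by rw [quotComod_apply, Bialgebra.comul_one, map_one],
    fun f g => by rw [quotComod_apply, quotComod_apply, quotComod_apply, Bialgebra.comul_mul, map_mul]⟩

theorem quot_invariants_eq :
    letI := quotComod (R := R) I
    haveI := quot_isCoactAlg (R := R) I
    GLin.invariants R (A ⧸ I) A = AlgHom.equalizer
      ((Algebra.TensorProduct.map (AlgHom.id R A) (Ideal.Quotient.mkₐ R I)).comp (Bialgebra.comulAlgHom R A))
      (Algebra.TensorProduct.includeLeft : A →ₐ[R] A ⊗[R] (A ⧸ I)) := by
  letI := quotComod (R := R) I
  haveI := quot_isCoactAlg (R := R) I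
  refine SetLike.ext fun a => ?_
  rw [GLin.mem_invariants_iff, quotComod_apply]
  exact Iff.rfl

theorem quot_canR_surjective :
    letI := quotComod (R := R) I
    haveI := quot_isCoactAlg (R := R) I
    Function.Surjective (canR R (A ⧸ I) A) := by
  letI := quotComod (R := R) I
  haveI := quot_isCoactAlg (R := R) I
  let q := Ideal.Quotient.mkₐ R I
  have key : ∀ w, canR R (A ⧸ I) A (Algebra.TensorProduct.map (HopfAlgebra.antipodeAlgHom R A) (AlgHom.id R A) w) =
      Algebra.TensorProduct.map (AlgHom.id R A) q (Comodule.galoisDual R A w) := by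
    intro w
    induction w with
    | zero => simp
    | add p r hp hr => simp only [map_add, hp, hr]
    | tmul p r => simp [canR, Comodule.galoisDual, quotComod_apply, q, map_mul]
  intro z
  induction z with
  | zero => exact ⟨0, map_zero _⟩
  | add p r hp hr =>
    obtain ⟨p', rfl⟩ := hp
    obtain ⟨r', rfl⟩ := hr
    exact ⟨p' + r', map_add _ _ _⟩
  | tmul a h =>
    obtain ⟨c, rfl⟩ := Ideal.Quotient.mk_surjective h
    refine ⟨(a ⊗ₜ[R] (1 : A)) *
      Algebra.TensorProduct.map (HopfAlgebra.antipodeAlgHom R A) (AlgHom.id R A) (Coalgebra.comul (R := R) c), ?_⟩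
    rw [map_mul, key, Comodule.galoisDual_comul]
    simp [canR, Bialgebra.comul_one, quotComod_apply, q, Algebra.TensorProduct.tmul_mul_tmul]

end Groth.Agent.HopfGalois
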