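import Groth.Agent.HopfGalois.Integral
import Groth.Prelude.Def_GLin2
import Mathlib

/-! A coaction of a finite projective Hopf algebra with surjective canonical map: the algebra is finite
projective over the invariants and the canonical map is bijective. -/

set_option autoImplicit false
universe u v w

open TensorProduct

noncomputable section

namespace Groth.Agent.HopfGalois

variable (R : Type u) [CommRing R] (H : Type v) [CommRing H] [HopfAlgebra R H]
  (A : Type w) [CommRing A] [Algebra R A] [HopfRep.Comod R H A] [GLin.IsCoactAlg R H A]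

local notation "B₀" => GLin.invariants R H A

/-- The canonical map `a ⊗ b ↦ (a ⊗ 1) ρ b`. -/
def canR : A ⊗[R] A →ₐ[R] A ⊗[R] H :=
  Algebra.TensorProduct.lift Algebra.TensorProduct.includeLeft (GLin.coactAlgHom R H A) fun _ _ => Commute.all _ _

theorem coact_inv (b : GLin.invariants R H A) : GLin.coactAlgHom R H A (b : A) = (b : A) ⊗ₜ[R] (1 : H) :=
  (GLin.coactAlgHom_apply R H A _).trans ((GLin.mem_invariants_iff R H A _).mp b.2)

/-- The canonical map over the invariants. -/
def canB : A ⊗[GLin.invariants R H A] A →ₐ[A] A ⊗[R] H :=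
  Algebra.TensorProduct.lift (R := GLin.invariants R H A) (S := A) (Algebra.ofId A (A ⊗[R] H))
    { (GLin.coactAlgHom R H A).toRingHom with
      commutes' := fun b => (coact_inv R H A b).trans rfl } fun _ _ => Commute.all _ _

theorem canB_tmul (a b : A) : canB R H A (a ⊗ₜ[GLin.invariants R H A] b) = (a ⊗ₜ[R] (1 : H)) * GLin.coactAlgHom R H A b := by
  simp [canB]

variable {R H A}

/-- `a ⊗ h ↦ t h • a`. -/
def aev (t : H →ₗ[R] R) : A ⊗[R] H →ₗ[A] A :=
  (AlgebraTensorModule.rid R A A).toLinearMap ∘ₗ AlgebraTensorModule.lTensor A A t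

theorem aev_tmul (t : H →ₗ[R] R) (a : A) (h : H) : aev t (a ⊗ₜ[R] h) = t h • a := by simp [aev]

theorem aev_left (t : H →ₗ[R] R) (a : A) (z : A ⊗[R] H) : aev t ((a ⊗ₜ[R] (1 : H)) * z) = a * aev t z := by
  induction z with
  | zero => simp
  | add p q hp hq => simp only [mul_add, map_add, hp, hq]
  | tmul p q => simp [aev_tmul]

theorem aev_coact_mem {t : H →ₗ[R] R} (ht : ∀ x, lev t (Coalgebra.comul (R := R) x) = algebraMap R H (t x)) (a : A) :
    aev t (GLin.coactAlgHom R H A a) ∈ GLin.invariants R H A := by
  rw [GLin.mem_invariants_iff, GLin.coactAlgHom_apply]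
  have e1 : ∀ z : A ⊗[R] H, HopfRep.Comod.coact (k := R) (A := H) (aev t z) =
      (lev t).lTensor A (TensorProduct.assoc R A H H ((HopfRep.Comod.coact (k := R) (A := H) (V := A)).rTensor H z)) := by
    intro z
    induction z with
    | zero => simp
    | add p q hp hq => simp only [map_add, hp, hq]
    | tmul p q =>
      simp only [aev_tmul, map_smul, LinearMap.rTensor_tmul]
      generalize HopfRep.Comod.coact (k := R) (A := H) p = w
      induction w with
      | zero => simp
      | add r s hr hs => simp only [TensorProduct.add_tmul, map_add, smul_add, hr, hs]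
      | tmul r s => simp [lev]
  have hc := LinearMap.congr_fun (HopfRep.Comod.coassoc (k := R) (A := H) (V := A)) a
  simp only [LinearMap.comp_apply, LinearEquiv.coe_coe] at hc
  rw [e1, hc]
  induction HopfRep.Comod.coact (k := R) (A := H) a with
  | zero => simp
  | add p q hp hq => simp only [map_add, TensorProduct.add_tmul, hp, hq]
  | tmul p q =>
    rw [LinearMap.lTensor_tmul, LinearMap.lTensor_tmul, ht, aev_tmul, Algebra.algebraMap_eq_smul_one,
      TensorProduct.tmul_smul, TensorProduct.smul_tmul']

/-- The trace `a ↦ (id ⊗ t) ρ(y a)` into the invariants. -/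
def phi {t : H →ₗ[R] R} (ht : ∀ x, lev t (Coalgebra.comul (R := R) x) = algebraMap R H (t x)) (y : A) :
    A →ₗ[GLin.invariants R H A] GLin.invariants R H A where
  toFun a := ⟨aev t (GLin.coactAlgHom R H A (y * a)), aev_coact_mem ht _⟩
  map_add' a b := Subtype.ext (by simp [mul_add])
  map_smul' c a := Subtype.ext (by
    show aev t (GLin.coactAlgHom R H A (y * ((c : A) * a))) = (c : A) * aev t (GLin.coactAlgHom R H A (y * a))
    rw [show y * ((c : A) * a) = (c : A) * (y * a) by ring, map_mul, coact_inv, aev_left])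

theorem phi_coe {t : H →ₗ[R] R} (ht : ∀ x, lev t (Coalgebra.comul (R := R) x) = algebraMap R H (t x)) (y a : A) :
    ((phi ht y a : GLin.invariants R H A) : A) = aev t (GLin.coactAlgHom R H A (y * a)) := rfl

theorem exists_dualBasis [Module.Finite R H] [Module.Projective R H] (hsurj : Function.Surjective (canR R H A)) :
    ∃ (ι : Type) (_ : Fintype ι) (x y : ι → A) (t : ι → H →ₗ[R] R),
      (∀ i, ∀ h, lev (t i) (Coalgebra.comul (R := R) h) = algebraMap R H (t i h)) ∧
      ∀ a, ∑ i, x i * aev (t i) (GLin.coactAlgHom R H A (y i * a)) = a := by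
  classical
  obtain ⟨n, t, l, ht, htl⟩ := exists_integrals (R := R) (H := H)
  choose z hz using fun j => hsurj ((1 : A) ⊗ₜ[R] l j)
  choose N xs ys hsum using fun j => (show ∃ (N : ℕ) (x y : Fin N → A), z j = ∑ i, x i ⊗ₜ[R] y i by
    obtain ⟨S, hS⟩ := TensorProduct.exists_finset (R := R) (z j)
    refine ⟨S.card, fun i => (S.equivFin.symm i).1.1, fun i => (S.equivFin.symm i).1.2, ?_⟩
    rw [hS, ← Finset.sum_coe_sort S (fun p => p.1 ⊗ₜ[R] p.2)]
    exact (Equiv.sum_comp S.equivFin.symm (fun p : S => p.1.1 ⊗ₜ[R] p.1.2)).symm)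
  refine ⟨Σ j : Fin n, Fin (N j), inferInstance, fun p => xs p.1 p.2, fun p => ys p.1 p.2, fun p => t p.1,
    fun p h => ht p.1 h, fun a => ?_⟩
  rw [Fintype.sum_sigma]
  have e : ∀ j, ∑ i, xs j i * aev (t j) (GLin.coactAlgHom R H A (ys j i * a)) =
      aev (t j) (((1 : A) ⊗ₜ[R] l j) * GLin.coactAlgHom R H A a) := by
    intro j
    rw [← hz j, hsum j, map_sum, Finset.sum_mul, map_sum]
    refine Finset.sum_congr rfl fun i _ => ?_
    rw [← aev_left, map_mul (GLin.coactAlgHom R H A), show canR R H A (xs j i ⊗ₜ[R] ys j i) =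
      (xs j i ⊗ₜ[R] (1 : H)) * GLin.coactAlgHom R H A (ys j i) by simp [canR], mul_assoc]
  rw [Finset.sum_congr rfl fun j _ => e j, GLin.coactAlgHom_apply]
  have e2 : ∀ w : A ⊗[R] H, ∑ j, aev (t j) (((1 : A) ⊗ₜ[R] l j) * w) =
      TensorProduct.rid R A ((Coalgebra.counit (R := R) (A := H)).lTensor A w) := by
    intro w
    induction w with
    | zero => simp
    | add p q hp hq => simp only [mul_add, map_add, Finset.sum_add_distrib, hp, hq]
    | tmul p q => simp [aev_tmul, ← Finset.sum_smul, htl]
  have hc := LinearMap.congr_fun (HopfRep.Comod.counit_comp (k := R) (A := H) (V := A)) a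
  simp only [LinearMap.comp_apply, LinearMap.flip_apply, TensorProduct.mk_apply] at hc
  rw [e2, hc]
  simp

theorem finite_projective [Module.Finite R H] [Module.Projective R H] (hsurj : Function.Surjective (canR R H A)) :
    Module.Finite (GLin.invariants R H A) A ∧ Module.Projective (GLin.invariants R H A) A := by
  obtain ⟨ι, _, x, y, t, ht, hdual⟩ := exists_dualBasis hsurj
  let s : A →ₗ[GLin.invariants R H A] (ι → GLin.invariants R H A) := LinearMap.pi fun i => phi (ht i) (y i)
  let π : (ι → GLin.invariants R H A) →ₗ[GLin.invariants R H A] A := Fintype.linearCombination _ x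
  have hπs : ∀ a, π (s a) = a := fun a => by
    conv_rhs => rw [← hdual a]
    simp only [π, s, Fintype.linearCombination_apply, LinearMap.pi_apply]
    exact Finset.sum_congr rfl fun i _ => mul_comm _ _
  haveI : Module.Finite (GLin.invariants R H A) A := Module.Finite.of_surjective π fun a => ⟨s a, hπs a⟩
  exact ⟨inferInstance, Module.Projective.of_split s π (LinearMap.ext hπs)⟩

theorem canB_bijective [Module.Finite R H] [Module.Projective R H] (hsurj : Function.Surjective (canR R H A)) :
    Function.Bijective (canB R H A) := by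
  obtain ⟨ι, _, x, y, t, ht, hdual⟩ := exists_dualBasis hsurj
  refine ⟨Function.LeftInverse.injective (g := fun w => ∑ i, aev (t i) (GLin.coactAlgHom R H A (y i) * w) ⊗ₜ x i)
    fun z => ?_, fun w => ?_⟩
  · induction z with
    | zero => simp
    | add p q hp hq => simp only [map_add, mul_add, TensorProduct.add_tmul, Finset.sum_add_distrib] at hp hq ⊢; rw [hp, hq]
    | tmul a b =>
      show ∑ i, aev (t i) (GLin.coactAlgHom R H A (y i) * canB R H A (a ⊗ₜ b)) ⊗ₜ x i = a ⊗ₜ b
      have e : ∀ i, aev (t i) (GLin.coactAlgHom R H A (y i) * canB R H A (a ⊗ₜ b)) = (phi (ht i) (y i) b) • a := by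
        intro i
        rw [canB_tmul, mul_left_comm, ← map_mul, aev_left, Subalgebra.smul_def, smul_eq_mul, phi_coe, mul_comm]
      rw [Finset.sum_congr rfl fun i _ => by rw [e i, TensorProduct.smul_tmul], ← TensorProduct.tmul_sum]
      congr 1
      conv_rhs => rw [← hdual b]
      exact Finset.sum_congr rfl fun i _ => mul_comm _ _
  · obtain ⟨z, rfl⟩ := hsurj w
    induction z with
    | zero => exact ⟨0, by simp⟩
    | add p q hp hq =>
      obtain ⟨p', hp'⟩ := hp
      obtain ⟨q', hq'⟩ := hq
      exact ⟨p' + q', by rw [map_add, map_add, hp', hq']⟩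
    | tmul a b => exact ⟨a ⊗ₜ b, by rw [canB_tmul]; simp [canR]⟩

theorem comap_surjective [Module.Finite R H] [Module.Projective R H] (hsurj : Function.Surjective (canR R H A)) :
    Function.Surjective (PrimeSpectrum.comap (algebraMap (GLin.invariants R H A) A)) := by
  haveI := (finite_projective hsurj).1
  haveI : Algebra.IsIntegral (GLin.invariants R H A) A := Algebra.IsIntegral.of_finite _ _
  intro P
  obtain ⟨Q, hQ, hP⟩ := Ideal.exists_ideal_over_prime_of_isIntegral P.asIdeal (⊥ : Ideal A) (fun b hb => by
    rw [show b = 0 from Subtype.ext hb]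
    exact P.asIdeal.zero_mem)
  exact ⟨⟨Q, hP.1⟩, PrimeSpectrum.ext hP.2⟩

theorem rankAtStalk_eq [Module.Finite R H] [Module.Projective R H] (hsurj : Function.Surjective (canR R H A))
    (P : PrimeSpectrum (GLin.invariants R H A)) :
    Module.rankAtStalk A P = Module.rankAtStalk H (P.comap (algebraMap R (GLin.invariants R H A))) := by
  haveI := (finite_projective hsurj).1
  haveI := (finite_projective hsurj).2
  obtain ⟨Q, rfl⟩ := comap_surjective hsurj P
  rw [← Module.rankAtStalk_baseChange (S := A) Q,
    Module.rankAtStalk_eq_of_equiv (AlgEquiv.ofBijective (canB R H A) (canB_bijective hsurj)).toLinearEquiv,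
    Module.rankAtStalk_baseChange]
  rfl

end Groth.Agent.HopfGalois
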