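import Groth.Agent.Comodule.Integral
import Mathlib

/-! Left integrals of a finite projective Hopf algebra, as traces: the counit is in their span. -/

set_option autoImplicit false
universe u v

open TensorProduct WithConv

noncomputable section

namespace Groth.Agent.HopfGalois

variable {R : Type u} [CommRing R] {H : Type v} [CommRing H] [HopfAlgebra R H]

/-- `h ↦ h₁ φ(h₂)`. -/
def lop (φ : H →ₗ[R] R) : H →ₗ[R] H :=
  (TensorProduct.rid R H).toLinearMap ∘ₗ φ.lTensor H ∘ₗ Coalgebra.comul (R := R)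

/-- `a ⊗ h ↦ a • f h`. -/
def lev (f : H →ₗ[R] R) : H ⊗[R] H →ₗ[R] H := (TensorProduct.rid R H).toLinearMap ∘ₗ f.lTensor H

theorem lev_left (f : H →ₗ[R] R) (a : H) (w : H ⊗[R] H) : lev f ((a ⊗ₜ[R] (1 : H)) * w) = a * lev f w := by
  induction w with
  | zero => simp
  | add p q hp hq => simp only [mul_add, map_add, hp, hq]
  | tmul p q => simp [lev]

theorem sum_lev {n : ℕ} (e : Fin n → H) (f : Fin n → H →ₗ[R] R) (hef : ∀ h, ∑ i, f i h • e i = h) (w : H ⊗[R] H) :
    w = ∑ j, (lev (f j) w ⊗ₜ[R] (1 : H)) * ((1 : H) ⊗ₜ[R] e j) := by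
  induction w with
  | zero => simp
  | add p q hp hq => simp only [map_add, TensorProduct.add_tmul, add_mul, Finset.sum_add_distrib, ← hp, ← hq]
  | tmul a h =>
    conv_lhs => rw [← hef h, TensorProduct.tmul_sum]
    exact Finset.sum_congr rfl fun j _ => by simp [lev, TensorProduct.smul_tmul]

theorem trace_comm {n : ℕ} (e : Fin n → H) (f : Fin n → H →ₗ[R] R) (hef : ∀ h, ∑ i, f i h • e i = h)
    (U V : H ⊗[R] H →ₗ[R] H ⊗[R] H) (hU : ∀ a w, U ((a ⊗ₜ[R] (1 : H)) * w) = (a ⊗ₜ[R] (1 : H)) * U w)
    (hV : ∀ a w, V ((a ⊗ₜ[R] (1 : H)) * w) = (a ⊗ₜ[R] (1 : H)) * V w) :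
    ∑ i, lev (f i) (U (V ((1 : H) ⊗ₜ[R] e i))) = ∑ i, lev (f i) (V (U ((1 : H) ⊗ₜ[R] e i))) := by
  have key : ∀ (U V : H ⊗[R] H →ₗ[R] H ⊗[R] H), (∀ a w, U ((a ⊗ₜ[R] (1 : H)) * w) = (a ⊗ₜ[R] (1 : H)) * U w) →
      ∀ i, lev (f i) (U (V ((1 : H) ⊗ₜ[R] e i))) =
        ∑ j, lev (f j) (V ((1 : H) ⊗ₜ[R] e i)) * lev (f i) (U ((1 : H) ⊗ₜ[R] e j)) := by
    intro U V hU i
    conv_lhs => rw [sum_lev e f hef (V ((1 : H) ⊗ₜ[R] e i)), map_sum, map_sum]
    exact Finset.sum_congr rfl fun j _ => by rw [hU, lev_left]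
  rw [Finset.sum_congr rfl fun i _ => key U V hU i, Finset.sum_congr rfl fun i _ => key V U hV i, Finset.sum_comm]
  exact Finset.sum_congr rfl fun i _ => Finset.sum_congr rfl fun j _ => mul_comm _ _

theorem lTensor_lop_comul (φ : H →ₗ[R] R) (h : H) :
    (lop φ).lTensor H (Coalgebra.comul (R := R) h) = Coalgebra.comul (R := R) (lop φ h) := by
  let P : H ⊗[R] (H ⊗[R] H) →ₗ[R] H ⊗[R] H :=
    ((TensorProduct.rid R H).toLinearMap ∘ₗ φ.lTensor H).lTensor H
  have e1 : ∀ z : H ⊗[R] H, (lop φ).lTensor H z = P ((Coalgebra.comul (R := R)).lTensor H z) := by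
    intro z
    induction z with
    | zero => simp
    | add p q hp hq => simp only [map_add, hp, hq]
    | tmul p q => simp [P, lop]
  have e2 : ∀ z : H ⊗[R] H, P (TensorProduct.assoc R H H H ((Coalgebra.comul (R := R)).rTensor H z)) =
      Coalgebra.comul (R := R) (TensorProduct.rid R H (φ.lTensor H z)) := by
    intro z
    induction z with
    | zero => simp
    | add p q hp hq => simp only [map_add, hp, hq]
    | tmul p q =>
      simp only [LinearMap.rTensor_tmul, LinearMap.lTensor_tmul, TensorProduct.rid_tmul, map_smul]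
      generalize Coalgebra.comul (R := R) p = w
      induction w with
      | zero => simp
      | add r s hr hs => simp only [TensorProduct.add_tmul, map_add, smul_add, hr, hs]
      | tmul r s => simp [P]
  rw [e1, ← Coalgebra.coassoc_apply, e2]
  rfl

/-- The trace form attached to a functional is a left integral. -/
theorem lev_comul_trace {n : ℕ} (e : Fin n → H) (f : Fin n → H →ₗ[R] R) (hef : ∀ h, ∑ i, f i h • e i = h)
    (φ : H →ₗ[R] R) (x : H) :
    lev (∑ i, f i ∘ₗ LinearMap.mulRight R (lop φ (e i))) (Coalgebra.comul (R := R) x) =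
      algebraMap R H (∑ i, f i (x * lop φ (e i))) := by
  let iL : H →ₐ[R] H ⊗[R] H := Algebra.TensorProduct.includeLeft
  let iR : H →ₐ[R] H ⊗[R] H := Algebra.TensorProduct.includeRight
  let Δ : H →ₐ[R] H ⊗[R] H := Bialgebra.comulAlgHom R H
  let Γ : H ⊗[R] H →ₐ[R] H ⊗[R] H := Algebra.TensorProduct.lift iL Δ fun _ _ => Commute.all _ _
  let N : H →ₐ[R] H ⊗[R] H := (Algebra.TensorProduct.map (HopfAlgebra.antipodeAlgHom R H) (AlgHom.id R H)).comp Δ
  let Γ' : H ⊗[R] H →ₐ[R] H ⊗[R] H := Algebra.TensorProduct.lift iL N fun _ _ => Commute.all _ _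
  have hΓN : ∀ h, Γ (N h) = iR h := by
    intro h
    have h1 : Γ (N h) = (toConv (iL.comp (HopfAlgebra.antipodeAlgHom R H)) * toConv Δ).ofConv h := by
      rw [AlgHom.convMul_apply]
      show Γ ((Algebra.TensorProduct.map (HopfAlgebra.antipodeAlgHom R H) (AlgHom.id R H)) (Coalgebra.comul (R := R) h)) = _
      induction Coalgebra.comul (R := R) h with
      | zero => simp
      | add p q hp hq => simp only [map_add, hp, hq]
      | tmul p q => simp [Γ]
    rw [h1]
    refine congrArg (fun g : WithConv (H →ₐ[R] H ⊗[R] H) => g.ofConv h) (?_ : _ = toConv iR)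
    rw [show Δ = (toConv iL * toConv iR).ofConv from congrArg WithConv.ofConv (Comodule.comulAlgHom_eq_mul (k := R) (A := H))]
    exact ((mul_assoc (G := WithConv (H →ₐ[R] H ⊗[R] H)) _ _ _).symm.trans
      ((congrArg (· * toConv iR) (inv_mul_cancel (toConv iL))).trans (one_mul _)))
  have hΓ : ∀ w, Γ (Γ' w) = w := by
    intro w
    induction w with
    | zero => simp
    | add p q hp hq => simp only [map_add, hp, hq]
    | tmul a h =>
      rw [show Γ' (a ⊗ₜ[R] h) = iL a * N h by simp [Γ'], map_mul, hΓN]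
      simp [Γ, iL, iR, Algebra.TensorProduct.tmul_mul_tmul]
  have hΓ' : ∀ w, Γ' (Γ w) = w := by
    intro w
    induction w with
    | zero => simp
    | add p q hp hq => simp only [map_add, hp, hq]
    | tmul a h =>
      have h1 : Γ' (Δ h) = (toConv iL * toConv N).ofConv h := by
        rw [AlgHom.convMul_apply]
        show Γ' (Coalgebra.comul (R := R) h) = _
        induction Coalgebra.comul (R := R) h with
        | zero => simp
        | add p q hp hq => simp only [map_add, hp, hq]
        | tmul p q => simp [Γ']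
      have hN : toConv N = toConv (iL.comp (HopfAlgebra.antipodeAlgHom R H)) * toConv iR := by
        refine WithConv.ofConv_injective (AlgHom.ext fun y => ?_)
        rw [AlgHom.convMul_apply]
        show (Algebra.TensorProduct.map (HopfAlgebra.antipodeAlgHom R H) (AlgHom.id R H)) (Coalgebra.comul (R := R) y) = _
        induction Coalgebra.comul (R := R) y with
        | zero => simp
        | add p q hp hq => simp only [map_add, hp, hq]
        | tmul p q => simp [iL, iR, Algebra.TensorProduct.tmul_mul_tmul]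
      rw [show Γ (a ⊗ₜ[R] h) = iL a * Δ h by simp [Γ], map_mul, h1, hN,
        show toConv iL * (toConv (iL.comp (HopfAlgebra.antipodeAlgHom R H)) * toConv iR) = toConv iR from
          (mul_assoc (G := WithConv (H →ₐ[R] H ⊗[R] H)) _ _ _).symm.trans
            ((congrArg (· * toConv iR) (mul_inv_cancel (toConv iL))).trans (one_mul _))]
      simp [Γ', iL, iR, Algebra.TensorProduct.tmul_mul_tmul]
  let Lx : H →ₗ[R] H := LinearMap.mulLeft R x ∘ₗ lop φ
  let L0 : H ⊗[R] H →ₗ[R] H ⊗[R] H := LinearMap.mulLeft R (Δ x) ∘ₗ (lop φ).lTensor H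
  have hlin : ∀ (g : H →ₗ[R] H) a w, g.lTensor H ((a ⊗ₜ[R] (1 : H)) * w) = (a ⊗ₜ[R] (1 : H)) * g.lTensor H w := by
    intro g a w
    induction w with
    | zero => simp
    | add p q hp hq => simp only [mul_add, map_add, hp, hq]
    | tmul p q => simp
  have hGlin : ∀ a w, Γ ((a ⊗ₜ[R] (1 : H)) * w) = (a ⊗ₜ[R] (1 : H)) * Γ w := fun a w => by
    rw [map_mul]; simp [Γ, iL]
  have hG'lin : ∀ a w, Γ' ((a ⊗ₜ[R] (1 : H)) * w) = (a ⊗ₜ[R] (1 : H)) * Γ' w := fun a w => by
    rw [map_mul]; simp [Γ', iL]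
  have hcomm : ∀ w, L0 (Γ w) = Γ (Lx.lTensor H w) := by
    intro w
    induction w with
    | zero => simp
    | add p q hp hq => simp only [map_add, hp, hq]
    | tmul a h =>
      rw [show Γ (a ⊗ₜ[R] h) = (a ⊗ₜ[R] (1 : H)) * Δ h by simp [Γ, iL]]
      simp only [L0, LinearMap.comp_apply, hlin, LinearMap.mulLeft_apply, LinearMap.lTensor_tmul]
      rw [show (lop φ).lTensor H (Δ h) = Δ (lop φ h) from lTensor_lop_comul φ h, ← mul_assoc, mul_comm (Δ x),
        mul_assoc, ← map_mul, show Γ (a ⊗ₜ[R] Lx h) = (a ⊗ₜ[R] (1 : H)) * Δ (Lx h) by simp [Γ, iL]]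
      rfl
  have h := trace_comm e f hef Γ.toLinearMap (Lx.lTensor H ∘ₗ Γ'.toLinearMap) hGlin
    (fun a w => by simp only [LinearMap.comp_apply, AlgHom.toLinearMap_apply, hG'lin, hlin])
  simp only [LinearMap.comp_apply, AlgHom.toLinearMap_apply, hΓ', ← hcomm, hΓ] at h
  have hR : ∑ i, lev (f i) (Lx.lTensor H ((1 : H) ⊗ₜ[R] e i)) = algebraMap R H (∑ i, f i (x * lop φ (e i))) := by
    rw [map_sum]
    exact Finset.sum_congr rfl fun i _ => by simp [lev, Lx, Algebra.algebraMap_eq_smul_one]
  rw [← hR, ← h]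
  have hL : ∀ i, lev (f i) (L0 ((1 : H) ⊗ₜ[R] e i)) =
      lev (f i ∘ₗ LinearMap.mulRight R (lop φ (e i))) (Coalgebra.comul (R := R) x) := by
    intro i
    show lev (f i) (Δ x * _) = _
    rw [LinearMap.lTensor_tmul]
    show lev (f i) (Coalgebra.comul (R := R) x * _) = _
    induction Coalgebra.comul (R := R) x with
    | zero => simp
    | add p q hp hq => simp only [add_mul, map_add, hp, hq]
    | tmul p q => simp [lev]
  rw [Finset.sum_congr rfl fun i _ => hL i]
  generalize Coalgebra.comul (R := R) x = z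
  induction z with
  | zero => simp
  | add p q hp hq => simp only [map_add, Finset.sum_add_distrib, hp, hq]
  | tmul p q => simp [lev, Finset.sum_smul]

/-- The counit is a combination of left integrals. -/
theorem exists_integrals [Module.Finite R H] [Module.Projective R H] :
    ∃ (n : ℕ) (t : Fin n → H →ₗ[R] R) (l : Fin n → H),
      (∀ j x, lev (t j) (Coalgebra.comul (R := R) x) = algebraMap R H (t j x)) ∧
      ∀ x, ∑ j, t j (l j * x) = Coalgebra.counit (R := R) x := by
  obtain ⟨n, F, G, -, -, hFG⟩ := Module.Finite.exists_comp_eq_id_of_projective R H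
  let e : Fin n → H := fun i => F (Pi.single i 1)
  let f : Fin n → H →ₗ[R] R := fun i => LinearMap.proj i ∘ₗ G
  have hef : ∀ h, ∑ i, f i h • e i = h := by
    intro h
    conv_rhs => rw [← LinearMap.id_apply (R := R) h, ← hFG, LinearMap.comp_apply, pi_eq_sum_univ (G h)]
    rw [map_sum]
    refine Finset.sum_congr rfl fun i _ => ?_
    rw [map_smul]
    exact congrArg (fun z => G h i • F z) (funext fun j => by simp [Pi.single_apply, eq_comm])
  refine ⟨n, fun j => ∑ i, f i ∘ₗ LinearMap.mulRight R (lop (f j) (e i)), fun j => HopfAlgebra.antipode R (e j),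
    fun j x => ?_, fun x => ?_⟩
  · rw [lev_comul_trace e f hef]
    simp
  · simp only [LinearMap.sum_apply, LinearMap.comp_apply, LinearMap.mulRight_apply]
    rw [Finset.sum_comm]
    have key : ∀ i, ∑ j, HopfAlgebra.antipode R (e j) * x * lop (f j) (e i) = Coalgebra.counit (R := R) (e i) • x := by
      intro i
      have e1 : x * LinearMap.mul' R H ((HopfAlgebra.antipode R).lTensor H (Coalgebra.comul (R := R) (e i))) =
          ∑ j, HopfAlgebra.antipode R (e j) * x * lop (f j) (e i) := by
        simp only [lop, LinearMap.comp_apply]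
        induction Coalgebra.comul (R := R) (e i) with
        | zero => simp
        | add p q hp hq => simp only [map_add, mul_add, Finset.sum_add_distrib, hp, hq]
        | tmul p q =>
          conv_lhs => rw [← hef q]
          simp only [TensorProduct.tmul_sum, map_sum, Finset.mul_sum, LinearMap.lTensor_tmul, LinearMap.mul'_apply,
            LinearEquiv.coe_coe, TensorProduct.rid_tmul, map_smul, mul_smul_comm]
          exact Finset.sum_congr rfl fun j _ => by congr 1; ring
      rw [← e1, HopfAlgebra.mul_antipode_lTensor_comul_apply, Algebra.smul_def, mul_comm]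
    simp only [← map_sum, key, map_smul, smul_eq_mul]
    calc ∑ i, Coalgebra.counit (R := R) (e i) * f i x = Coalgebra.counit (R := R) (∑ i, f i x • e i) := by
          rw [map_sum]
          exact Finset.sum_congr rfl fun i _ => by rw [map_smul, smul_eq_mul, mul_comm]
      _ = _ := by rw [hef]

end Groth.Agent.HopfGalois
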